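import Cfsg.Agent.H763.Cls.Tool
import Cfsg.Agent.S0157

/-!
# Sums over the classes of a class enumeration certificate (helper174)

* `cls`: the centralizers of the representatives have exactly the certified orders, and the sum of an invariant function over
  `N` is the sum over the table;
* `isCharacter_proj`: the character of an invariant idempotent of a permutation module.
-/

set_option autoImplicit false

namespace Cfsg.Agent.H174.HT

open Equiv Cfsg.Agent.H123.Cls Cfsg.Agent.H763.Cls Cfsg.Agent.Lib.BitNet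

section

variable {n : ℕ}

/-- the class -/
def cl (A : Subgroup (Perm (Fin n))) (r : Perm (Fin n)) : Set (Perm (Fin n)) := {x | ∃ a ∈ A, x = a * r * a⁻¹}

theorem card_cl (A : Subgroup (Perm (Fin n))) (r : Perm (Fin n)) :
    Nat.card A = Nat.card ↥(A ⊓ Subgroup.centralizer {r}) * (cl A r).ncard := by
  let C : Subgroup A := (A ⊓ Subgroup.centralizer {r}).subgroupOf A
  have e1 : Nat.card C = Nat.card ↥(A ⊓ Subgroup.centralizer {r}) :=
    Nat.card_congr (Subgroup.subgroupOfEquivOfLe inf_le_left).toEquiv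
  have e2 : Nat.card (A ⧸ C) = (cl A r).ncard := by
    rw [← Nat.card_coe_set_eq]
    refine Nat.card_congr (Equiv.ofBijective (fun q : A ⧸ C => Quotient.liftOn' q
      (fun a => (⟨(a : Perm (Fin n)) * r * (a : Perm (Fin n))⁻¹, a, a.2, rfl⟩ : cl A r)) ?_) ⟨?_, ?_⟩)
    · intro a b hab
      rw [QuotientGroup.leftRel_apply] at hab
      have h2 := (Subgroup.mem_inf.1 (Subgroup.mem_subgroupOf.1 hab)).2
      rw [Subgroup.mem_centralizer_singleton_iff] at h2
      apply Subtype.ext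
      change ((a : Perm (Fin n))⁻¹ * b) * r = r * ((a : Perm (Fin n))⁻¹ * b) at h2
      change (a : Perm (Fin n)) * r * (a : Perm (Fin n))⁻¹ = b * r * (b : Perm (Fin n))⁻¹
      calc (a : Perm (Fin n)) * r * (a : Perm (Fin n))⁻¹ =
          a * (r * ((a : Perm (Fin n))⁻¹ * b)) * (b : Perm (Fin n))⁻¹ := by group
        _ = a * ((a : Perm (Fin n))⁻¹ * b * r) * (b : Perm (Fin n))⁻¹ := by rw [h2]
        _ = b * r * (b : Perm (Fin n))⁻¹ := by group
    · intro q q' h
      induction q using Quotient.inductionOn' with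
      | h a =>
        induction q' using Quotient.inductionOn' with
        | h b =>
          have h2 : (a : Perm (Fin n)) * r * (a : Perm (Fin n))⁻¹ = b * r * (b : Perm (Fin n))⁻¹ :=
            congrArg Subtype.val h
          refine Quotient.sound' ?_
          rw [QuotientGroup.leftRel_apply]
          refine Subgroup.mem_subgroupOf.2 (Subgroup.mem_inf.2 ⟨(a⁻¹ * b).2, ?_⟩)
          rw [Subgroup.mem_centralizer_singleton_iff]
          change ((a : Perm (Fin n))⁻¹ * b) * r = r * ((a : Perm (Fin n))⁻¹ * b)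
          calc ((a : Perm (Fin n))⁻¹ * b) * r =
              (a : Perm (Fin n))⁻¹ * (b * r * (b : Perm (Fin n))⁻¹) * b := by group
            _ = (a : Perm (Fin n))⁻¹ * (a * r * (a : Perm (Fin n))⁻¹) * b := by rw [h2]
            _ = r * ((a : Perm (Fin n))⁻¹ * b) := by group
    · rintro ⟨x, a, ha, rfl⟩
      exact ⟨Quotient.mk'' ⟨a, ha⟩, rfl⟩
  rw [← e1, ← e2, mul_comm]
  exact Subgroup.card_eq_card_quotient_mul_card_subgroup C

/-- the classes of a table, exactly -/
theorem cls {K w : ℕ} {row : ℕ → ℕ} {A N : Subgroup (Perm (Fin n))} (hn : n ≤ 2 ^ K) (hA : A ≤ Aut n row)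
    (hnA : ∀ a ∈ A, ∀ x ∈ N, a * x * a⁻¹ ∈ N) {a : ℕ} (haA : a ≤ Nat.card A) (D : List (ℕ × ℕ × List ℕ))
    (hr : ∀ x ∈ D, ∃ g ∈ N, ∀ p : Fin n, (g p : ℕ) = lk w x.1 p)
    (hc : ∀ x ∈ D, ∃ l L, chkB n K row w x.1 l L x.2.1 = true)
    (J : Perm (Fin n) → List ℕ) (hJ : ∀ b ∈ A, ∀ r, J (b * r * b⁻¹) = J r)
    (hs : ∀ x ∈ D, ∀ r : Perm (Fin n), (∀ p : Fin n, (r p : ℕ) = lk w x.1 p) → J r = x.2.2)
    (hnd : (D.map fun x => x.2.2).Nodup) (hdvd : ∀ x ∈ D, x.2.1 + 1 ∣ a)
    (hsum : Nat.card N = (D.map fun x => a / (x.2.1 + 1)).sum) :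
    (∀ x ∈ D, ∀ r : Perm (Fin n), (∀ p : Fin n, (r p : ℕ) = lk w x.1 p) →
      Nat.card ↥(A ⊓ Subgroup.centralizer {r}) = x.2.1 + 1) ∧
    ∀ (φ : Perm (Fin n) → ℂ), (∀ b ∈ A, ∀ r, φ (b * r * b⁻¹) = φ r) → ∀ v : ℕ × ℕ × List ℕ → ℂ,
      (∀ x ∈ D, ∀ r ∈ N, (∀ p : Fin n, (r p : ℕ) = lk w x.1 p) → φ r = v x) → ∀ [Fintype N],
      ∑ g : N, φ g = (D.map fun x => ((a / (x.2.1 + 1) : ℕ) : ℂ) * v x).sum := by
  classical
  have hmem : ∀ i : Fin D.length, D[i.1] ∈ D := fun i => List.getElem_mem i.2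
  have hinj : Function.Injective (fun i : Fin D.length => (D[i.1]).2.2) := by
    intro i j hij
    have h1 := (List.nodup_iff_injective_get.1 hnd)
    have h2 : (⟨i.1, by rw [List.length_map]; exact i.2⟩ : Fin (D.map fun x => x.2.2).length) =
        ⟨j.1, by rw [List.length_map]; exact j.2⟩ := by
      apply h1
      simpa using hij
    have h3 := congrArg Fin.val h2
    exact Fin.ext h3
  have hr' : ∀ i : Fin D.length, ∃ g ∈ N, ∀ p : Fin n, (g p : ℕ) = lk w (D[i.1]).1 p := fun i => hr _ (hmem i)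
  choose r hrN hrp using hr'
  have hle : ∀ i, Nat.card ↥(A ⊓ Subgroup.centralizer {r i}) ≤ (D[i.1]).2.1 + 1 := by
    intro i
    obtain ⟨l, L, h1⟩ := hc _ (hmem i)
    refine card_le_bound hn (hrp i) h1 (inf_le_left.trans hA) fun σ hσ p => ?_
    have h2 := Subgroup.mem_centralizer_singleton_iff.1 (Subgroup.mem_inf.1 hσ).2
    exact congrArg (fun τ : Perm (Fin n) => τ p) h2
  have hcl : ∀ i : Fin D.length, a / ((D[i.1]).2.1 + 1) ≤ (cl A (r i)).ncard := by
    intro i
    have h1 := card_cl A (r i)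
    have h0 : 0 < Nat.card ↥(A ⊓ Subgroup.centralizer {r i}) := Nat.card_pos
    calc a / ((D[i.1]).2.1 + 1) ≤ Nat.card A / Nat.card ↥(A ⊓ Subgroup.centralizer {r i}) :=
          (Nat.div_le_div_right haA).trans (Nat.div_le_div_left (hle i) h0)
      _ = (cl A (r i)).ncard := by rw [h1, Nat.mul_div_cancel_left _ h0]
  have hdis : Set.PairwiseDisjoint (Set.univ : Set (Fin D.length)) fun i => cl A (r i) := by
    intro i _ j _ hij
    rw [Function.onFun, Set.disjoint_left]
    rintro x ⟨a, ha, rfl⟩ ⟨b, hb, h⟩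
    have h1 : b⁻¹ * a * r i * (b⁻¹ * a)⁻¹ = r j := by
      calc b⁻¹ * a * r i * (b⁻¹ * a)⁻¹ = b⁻¹ * (a * r i * a⁻¹) * b := by group
        _ = r j := by rw [h]; group
    apply hij
    apply hinj
    show (D[i.1]).2.2 = (D[j.1]).2.2
    rw [← hs _ (hmem i) _ (hrp i), ← hs _ (hmem j) _ (hrp j), ← h1, hJ _ (A.mul_mem (A.inv_mem hb) ha)]
  have hun : (⋃ i, cl A (r i)) ⊆ (N : Set (Perm (Fin n))) := by
    intro x hx
    obtain ⟨i, a, ha, rfl⟩ := Set.mem_iUnion.1 hx
    exact hnA a ha _ (hrN i)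
  have hcard : (⋃ i, cl A (r i)).ncard = ∑ i, (cl A (r i)).ncard := by
    have h := Set.ncard_iUnion_of_finite (s := fun i => cl A (r i)) (fun i => Set.toFinite _)
      (fun i j hij => hdis (Set.mem_univ i) (Set.mem_univ j) hij)
    rw [h, finsum_eq_sum_of_fintype]
  have hN : (N : Set (Perm (Fin n))).ncard = Nat.card N := rfl
  have hsum' : Nat.card N = ∑ i : Fin D.length, a / ((D[i.1]).2.1 + 1) := by
    rw [hsum, Fin.sum_univ_fun_getElem D (fun x => a / (x.2.1 + 1))]
  have hle2 : ∑ i, (cl A (r i)).ncard ≤ Nat.card N := by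
    rw [← hcard, ← hN]
    exact Set.ncard_le_ncard hun (Set.toFinite _)
  have heqi : ∀ i : Fin D.length, a / ((D[i.1]).2.1 + 1) = (cl A (r i)).ncard := by
    have h1 : ∑ i : Fin D.length, a / ((D[i.1]).2.1 + 1) = ∑ i, (cl A (r i)).ncard :=
      le_antisymm (Finset.sum_le_sum fun i _ => hcl i) (hsum' ▸ hle2)
    intro i
    exact (Finset.sum_eq_sum_iff_of_le fun i _ => hcl i).1 h1 i (Finset.mem_univ i)
  have heq : (⋃ i, cl A (r i)) = (N : Set (Perm (Fin n))) := by
    refine Set.eq_of_subset_of_ncard_le hun ?_ (Set.toFinite _)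
    rw [hN, hcard, hsum']
    exact Finset.sum_le_sum fun i _ => hcl i
  have huniq : ∀ (i : Fin D.length) (r' : Perm (Fin n)), (∀ p : Fin n, (r' p : ℕ) = lk w (D[i.1]).1 p) → r' = r i := by
    intro i r' h
    ext p
    rw [h, hrp]
  refine ⟨fun x hx r' hr' => ?_, fun φ hφ v hv _ => ?_⟩
  · obtain ⟨k, hk, rfl⟩ := List.getElem_of_mem hx
    have e := huniq ⟨k, hk⟩ r' hr'
    rw [e]
    have h1 := card_cl A (r ⟨k, hk⟩)
    have h2 := heqi ⟨k, hk⟩
    have h3 := hle ⟨k, hk⟩
    rw [← h2] at h1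
    change Nat.card A = _ * (a / (D[k].2.1 + 1)) at h1
    change _ ≤ D[k].2.1 + 1 at h3
    obtain ⟨m, hm⟩ := hdvd _ hx
    rw [hm, Nat.mul_div_cancel_left _ (Nat.succ_pos _)] at h1
    have h0 : 0 < Nat.card A := Nat.card_pos
    have hm0 : 0 < m := by
      rcases Nat.eq_zero_or_pos m with h | h
      · rw [h, mul_zero] at h1
        omega
      · exact h
    refine le_antisymm h3 ?_
    have h4 : (D[k].2.1 + 1) * m ≤ Nat.card ↥(A ⊓ Subgroup.centralizer {r ⟨k, hk⟩}) * m := by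
      rw [← hm, ← h1]
      exact haA
    exact Nat.le_of_mul_le_mul_right h4 hm0
  · have h1 : ∑ g : N, φ g = ∑ g ∈ (N : Set (Perm (Fin n))).toFinset, φ g := by
      rw [← Finset.sum_coe_sort (N : Set (Perm (Fin n))).toFinset φ]
      refine Fintype.sum_equiv (Equiv.subtypeEquivRight fun x => ?_) _ _ fun x => rfl
      rw [Set.mem_toFinset]
      rfl
    have h2 : (N : Set (Perm (Fin n))).toFinset = Finset.univ.biUnion fun i => (cl A (r i)).toFinset := by
      ext x
      rw [Set.mem_toFinset, ← heq, Set.mem_iUnion, Finset.mem_biUnion]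
      simp
    rw [h1, h2, Finset.sum_biUnion]
    · have h3 : ∀ i : Fin D.length, ∑ g ∈ (cl A (r i)).toFinset, φ g = ((a / ((D[i.1]).2.1 + 1) : ℕ) : ℂ) * v D[i.1] := by
        intro i
        have h4 : ∀ g ∈ (cl A (r i)).toFinset, φ g = v D[i.1] := by
          intro g hg
          rw [Set.mem_toFinset] at hg
          obtain ⟨b, hb, rfl⟩ := hg
          rw [hφ b hb, hv _ (hmem i) _ (hrN i) (hrp i)]
        rw [Finset.sum_congr rfl h4, Finset.sum_const, nsmul_eq_mul, heqi, Set.ncard_eq_toFinset_card']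
      rw [Finset.sum_congr rfl fun i _ => h3 i, Fin.sum_univ_fun_getElem D
        (fun x => ((a / (x.2.1 + 1) : ℕ) : ℂ) * v x)]
    · intro i _ j _ hij
      rw [Function.onFun, Set.disjoint_toFinset]
      exact hdis (Set.mem_univ i) (Set.mem_univ j) hij

end

/-! ### idempotents -/

section

open Cfsg Cfsg.Agent.Characters.Core

variable {G : Type*} [Group G] {V : Type*} [AddCommGroup V] [Module ℂ V]

/-- the restriction to an invariant subspace -/
noncomputable def subRep (ρ : Representation ℂ G V) (W : Submodule ℂ V) (h : ∀ g, ∀ w ∈ W, ρ g w ∈ W) :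
    Representation ℂ G W where
  toFun g := (ρ g).restrict (h g)
  map_one' := by
    ext w
    show ρ 1 w.1 = w.1
    rw [map_one]; rfl
  map_mul' k l := by
    ext w
    show ρ (k * l) w.1 = ρ k (ρ l w.1)
    rw [map_mul]; rfl

theorem subRep_char [FiniteDimensional ℂ V] (ρ : Representation ℂ G V) (E : V →ₗ[ℂ] V) (hE : ∀ v, E (E v) = E v)
    (h : ∀ g v, ρ g (E v) = E (ρ g v)) :
    IsCharacter G (fun g => LinearMap.trace ℂ V (ρ g ∘ₗ E)) := by
  have hW : ∀ g, ∀ w ∈ LinearMap.range E, ρ g w ∈ LinearMap.range E := by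
    rintro g _ ⟨v, rfl⟩
    exact ⟨ρ g v, (h g v).symm⟩
  have h1 := isCharacter_of_rep (subRep ρ (LinearMap.range E) hW)
  convert h1 using 1
  funext g
  have h2 : ∀ v, (ρ g ∘ₗ E) v ∈ LinearMap.range E := fun v => hW g _ ⟨v, rfl⟩
  rw [← LinearMap.trace_restrict_eq_of_forall_mem (LinearMap.range E) (ρ g ∘ₗ E) h2]
  show _ = LinearMap.trace ℂ _ (subRep ρ (LinearMap.range E) hW g)
  congr 1
  ext w
  obtain ⟨w, v, rfl⟩ := w
  show ρ g (E (E v)) = ρ g (E v)
  rw [hE]

/-- **the character of an invariant idempotent of a permutation module** -/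
theorem isCharacter_proj {X : Type*} [MulAction G X] [Fintype X] (e : X → X → ℂ)
    (hinv : ∀ (g : G) (x y : X), e (g • x) (g • y) = e x y) (hid : ∀ x z, ∑ y, e x y * e y z = e x z) :
    IsCharacter G (fun g => ∑ x, e x (g • x)) := by
  classical
  let E : (X → ℂ) →ₗ[ℂ] (X → ℂ) := Matrix.toLin' (Matrix.of e)
  have hE1 : ∀ f x, E f x = ∑ y, e x y * f y := fun f x => by
    show (Matrix.toLin' (Matrix.of e) f) x = _
    rw [Matrix.toLin'_apply]
    rfl
  let ρ : Representation ℂ G (X → ℂ) :=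
    { toFun := fun g => LinearMap.funLeft ℂ ℂ (fun x => g⁻¹ • x)
      map_one' := by
        ext f x
        simp [LinearMap.funLeft]
      map_mul' := fun g k => by
        refine LinearMap.ext fun f => funext fun x => ?_
        show f ((g * k)⁻¹ • x) = f (k⁻¹ • g⁻¹ • x)
        rw [mul_inv_rev, mul_smul] }
  have hρ : ∀ g f x, ρ g f x = f (g⁻¹ • x) := fun _ _ _ => rfl
  have h1 := subRep_char ρ E (fun f => by
    funext x
    rw [hE1, hE1]
    have : ∀ y, e x y * E f y = ∑ z, e x y * e y z * f z := fun y => by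
      rw [hE1, Finset.mul_sum]
      exact Finset.sum_congr rfl fun z _ => by ring
    rw [Finset.sum_congr rfl fun y _ => this y, Finset.sum_comm]
    refine Finset.sum_congr rfl fun z _ => ?_
    rw [← Finset.sum_mul, hid]) (fun g f => by
    funext x
    rw [hρ, hE1, hE1]
    refine Fintype.sum_equiv (MulAction.toPerm g) _ _ fun y => ?_
    rw [hρ]
    show e (g⁻¹ • x) y * f y = e x (g • y) * f (g⁻¹ • g • y)
    rw [inv_smul_smul, ← hinv g (g⁻¹ • x) y, smul_inv_smul])
  convert h1 using 1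
  funext g
  rw [LinearMap.trace_eq_matrix_trace ℂ (Pi.basisFun ℂ X), Matrix.trace]
  refine (Fintype.sum_equiv (MulAction.toPerm g) _ _ fun y => ?_)
  rw [Matrix.diag_apply, LinearMap.toMatrix_apply, Pi.basisFun_repr, Pi.basisFun_apply, LinearMap.comp_apply, hρ, hE1]
  show e y (g • y) = ∑ z, e (g⁻¹ • g • y) z * (Pi.single (g • y) 1 : X → ℂ) z
  rw [inv_smul_smul, Finset.sum_eq_single (g • y)]
  · rw [Pi.single_eq_same, mul_one]
  · intro z _ hz
    rw [Pi.single_eq_of_ne hz, mul_zero]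
  · intro h
    exact absurd (Finset.mem_univ _) h

end

end Cfsg.Agent.H174.HT
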