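import Cfsg.Agent.H174.HT.ClassSum
import Cfsg.Agent.H763.Co3.Rep

/-!
# `Co3` on 552 points: the values of three invariants on the 42 classes (helper174)

* `row_sq`: the idempotent of the eigenvalue 55 of the graph (row zero);
* `tot_h`, `tot_a`: two sums over the classes.
-/

set_option autoImplicit false
set_option maxRecDepth 1000000
set_option exponentiation.threshold 5000

namespace Cfsg.Agent.H174.HT

open Cfsg.Agent.H123.Cls Cfsg.Agent.H763.Cls Cfsg.Agent.H763.Co3.Dat
open Cfsg.Agent.Lib.BitNetSimple (force force_eq tb tb_eq)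

/-- `120 e + 5` -/
noncomputable def cN (x y : ℕ) : ℕ :=
  cnd (Nat.beq y x) 10 (cnd (Nat.beq y (lk 10 ts x)) 0 (cnd (tb (row x) y) 6 4))

noncomputable def cs1 (z : ℕ) : ℕ := sumN (fun y => Nat.mul (cN 0 y) (cN y z)) 552
noncomputable def cs2 (z : ℕ) : ℕ := sumN (fun y => cN y z) 552

/-- fixed points -/
noncomputable def fA (P : ℕ) : ℕ := popF 10 (fixM 552 10 10 P 1)
/-- points joined to their image -/
noncomputable def fN (P : ℕ) : ℕ := popF 10 (adjM 552 10 row 10 P 1)
/-- points mapped to their opposite -/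
noncomputable def fB (P : ℕ) : ℕ :=
  popF 10 (bld (fun p => band (Nat.blt p 552) (Nat.beq (lk 10 P p) (lk 10 ts p))) 10 0)

/-- `14400 h` -/
def hz (a b n : ℕ) : ℤ :=
  (6 * a + 2 * n - 4 * b - 552) * (60 * (a - b) - (6 * a + 2 * n - 4 * b - 552)) - 7200 * (a + b) + 14400

theorem row0_sum : Nat.beq (sumN (fun y => cN 0 y) 552) 2760 = true := by decide +kernel

theorem cs2_chk : allN (fun z => Nat.beq (cs2 z) 2760) 552 = true := by decide +kernel

theorem cs1_chk : allN (fun z => Nat.beq (cs1 z) (Nat.add (Nat.mul 120 (cN 0 z)) 13200)) 552 = true := by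
  decide +kernel

/-- no loops, the opposite point is different and not joined -/
theorem irr_chk : allN (fun x => band (not (tb (row x) x)) (band (not (tb (row x) (lk 10 ts x)))
    (not (Nat.beq (lk 10 ts x) x)))) 552 = true := by
  decide +kernel

/-- the contribution of a class to the norm of `h` -/
noncomputable def th (x : ℕ × ℕ × List ℕ) : ℤ :=
  force (fA x.1) fun a => force (fB x.1) fun b => force (fN x.1) fun n =>
    ((Nat.div 991533312000 (Nat.succ x.2.1) : ℕ) : ℤ) * (hz a b n * hz a b n)

theorem tot_h : (D.map th).sum = 14400 * 14400 * 495766656000 := by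
  unfold D
  decide +kernel

theorem tot_a : (D.map fun x => Nat.mul (Nat.div 991533312000 (Nat.succ x.2.1)) (fA x.1)).sum = 495766656000 := by
  unfold D
  decide +kernel

theorem tot_n : (D.map fun x => Nat.div 991533312000 (Nat.succ x.2.1)).sum = 495766656000 := by
  unfold D
  decide +kernel

theorem D_dvd : ∀ x ∈ D, x.2.1 + 1 ∣ 991533312000 := by
  unfold D
  decide +kernel

/-- the elements with centralizer divisible by `3 ^ 5` have order dividing 3 -/
theorem D_cent : ∀ x ∈ D, nth x.2.2 2 = 552 ∨ ¬ 3 ^ 5 ∣ x.2.1 + 1 := by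
  unfold D
  decide +kernel

end Cfsg.Agent.H174.HT
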