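import Cfsg.Agent.H174.HT.Co3Chk
import Cfsg.Agent.H763.Co3.Fin

/-!
# `Co3` : an irreducible character of degree 5544 (helper174)

`N ≅ Co3` on 552 points with the opposition `σ` and the graph `row` of valency 275. `μ` = the character of the eigenspace of
dimension 23, `π` = the permutation character on 276 points, `α` on 552 points.
`h = μ (α - π - μ) - (π - 1)` has norm one.
-/

set_option autoImplicit false

namespace Cfsg.Agent.H174.HT.Co3

open Equiv Cfsg Cfsg.Agent.H123.Cls Cfsg.Agent.H763.Cls Cfsg.Agent.H763.Co3.Dat Cfsg.Agent.Lib.BitNet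
open Cfsg.Agent.Characters.Core
open Cfsg.Agent.Lib.BitNetSimple (force force_eq tb tb_eq)
open Cfsg.Agent.H763.Co3.Model (N A2 A_conj A_le card_A card_N σ σ_apply σ_comm ψ)
open Cfsg.Agent.H763.Co3.Fin (D_ok D_nodup eN)
open scoped ComplexConjugate

/-- the classes -/
theorem clsN : (∀ x ∈ D, ∀ r : Perm (Fin 552), (∀ p : Fin 552, (r p : ℕ) = lk 10 x.1 p) →
      Nat.card ↥(A2 ⊓ Subgroup.centralizer {r}) = x.2.1 + 1) ∧
    ∀ (φ : Perm (Fin 552) → ℂ), (∀ b ∈ A2, ∀ r, φ (b * r * b⁻¹) = φ r) → ∀ v : ℕ × ℕ × List ℕ → ℂ,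
      (∀ x ∈ D, ∀ r ∈ N, (∀ p : Fin 552, (r p : ℕ) = lk 10 x.1 p) → φ r = v x) → ∀ [Fintype N],
      ∑ g : N, φ g = (D.map fun x => ((991533312000 / (x.2.1 + 1) : ℕ) : ℂ) * v x).sum :=
  cls (K := 10) (w := 10) (row := row) (A := A2) (N := N) (by norm_num) A_le
    (fun _ ha _ hx => A_conj ha hx) (a := 991533312000) (le_trans (by norm_num) card_A) D
    (fun x hx => by
      obtain ⟨a, b, h⟩ := (D_ok x hx).cm
      obtain ⟨u, hu, v, hv, h1⟩ := exists_of_chkC Cfsg.Agent.H763.Co3.Model.tabs_ok h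
      exact ⟨_, N.mul_mem (N.mul_mem (N.mul_mem hu hv) (N.inv_mem hu)) (N.inv_mem hv), h1⟩)
    (fun x hx => (D_ok x hx).bd) (Jx row key) (fun b hb r => Jx_conj (A_le hb) r)
    (fun x hx r hr => by
      obtain ⟨c, cs, e, h1, h2, h3⟩ := (D_ok x hx).sg
      rw [e]
      exact Jx_of (K := 10) (by norm_num) h1 h2 h3 hr)
    D_nodup D_dvd (by rw [card_N]; exact tot_n.symm)

/-! ### the three invariants -/

theorem comm_σ {b : Perm (Fin 552)} (hb : b ∈ A2) : b * σ = σ * b := by
  have h : A2 ≤ Subgroup.centralizer {σ} := by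
    refine sup_le ?_ ?_
    · rintro _ ⟨x, rfl⟩
      rw [Subgroup.mem_centralizer_singleton_iff]
      exact (σ_comm x).symm
    · rw [Subgroup.zpowers_le, Subgroup.mem_centralizer_singleton_iff]
  exact Subgroup.mem_centralizer_singleton_iff.1 (h hb)

/-- fixed points -/
noncomputable def na (r : Perm (Fin 552)) : ℕ := pwc row r (false, 1)
/-- points joined to their image -/
noncomputable def nn (r : Perm (Fin 552)) : ℕ := pwc row r (true, 1)
/-- points mapped to the opposite -/
noncomputable def nb (r : Perm (Fin 552)) : ℕ := Nat.card {p : Fin 552 // r p = σ p}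

theorem na_conj {b : Perm (Fin 552)} (hb : b ∈ A2) (r : Perm (Fin 552)) : na (b * r * b⁻¹) = na r :=
  pwc_conj (A_le hb) _

theorem nn_conj {b : Perm (Fin 552)} (hb : b ∈ A2) (r : Perm (Fin 552)) : nn (b * r * b⁻¹) = nn r :=
  pwc_conj (A_le hb) _

theorem nb_conj {b : Perm (Fin 552)} (hb : b ∈ A2) (r : Perm (Fin 552)) : nb (b * r * b⁻¹) = nb r := by
  unfold nb
  refine (Nat.card_congr (Equiv.subtypeEquiv b fun p => ?_)).symm
  have h1 : (b * r * b⁻¹) (b p) = b (r p) := by
    rw [Perm.mul_apply, Perm.mul_apply, show b⁻¹ (b p) = p from Equiv.symm_apply_apply b p]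
  have h2 : σ (b p) = b (σ p) := by
    rw [← Perm.mul_apply, ← comm_σ hb, Perm.mul_apply]
  rw [h1, h2, b.injective.eq_iff]

theorem fA_eq {P : ℕ} {r : Perm (Fin 552)} (hr : ∀ i, (r i : ℕ) = lk 10 P i) : fA P = na r :=
  popF_pwM (n := 552) (K := 10) (row := row) (by norm_num) hr (false, 1)

theorem fN_eq {P : ℕ} {r : Perm (Fin 552)} (hr : ∀ i, (r i : ℕ) = lk 10 P i) : fN P = nn r :=
  popF_pwM (n := 552) (K := 10) (row := row) (by norm_num) hr (true, 1)

theorem fB_eq {P : ℕ} {r : Perm (Fin 552)} (hr : ∀ i, (r i : ℕ) = lk 10 P i) : fB P = nb r := by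
  unfold fB nb
  have hb : ∀ i : ℕ, (bld (fun p => band (Nat.blt p 552) (Nat.beq (lk 10 P p) (lk 10 ts p))) 10 0).testBit i = true ↔
      i < 2 ^ 10 ∧ i < 552 ∧ lk 10 P i = lk 10 ts i := by
    intro i
    rw [testBit_bld, Bool.and_eq_true, decide_eq_true_iff, band_eq, zero_add, Nat.blt_eq, Nat.beq_eq]
  rw [popF_card (n := 552) (by norm_num) fun i hi => ((hb i).1 hi).2.1]
  refine Nat.card_congr (Equiv.subtypeEquivRight fun p => ?_)
  rw [hb, ← hr, ← σ_apply, Fin.val_inj]
  exact ⟨fun h => h.2.2, fun h => ⟨lt_trans p.2 (by norm_num), p.2, h⟩⟩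

/-- the function `h` -/
noncomputable def h (r : Perm (Fin 552)) : ℂ := (hz (na r) (nb r) (nn r) : ℂ) / 14400

theorem h_conj {b : Perm (Fin 552)} (hb : b ∈ A2) (r : Perm (Fin 552)) : h (b * r * b⁻¹) = h r := by
  unfold h
  rw [na_conj hb, nb_conj hb, nn_conj hb]

theorem sum_h [Fintype N] : ∑ g : N, h g * h g = 495766656000 := by
  have h1 := clsN.2 (fun r => h r * h r) (fun b hb r => by simp only [h_conj hb])
    (fun x => ((hz (fA x.1) (fB x.1) (fN x.1) : ℂ) / 14400) * ((hz (fA x.1) (fB x.1) (fN x.1) : ℂ) / 14400))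
    (fun x hx r hr hrp => by
      show h r * h r = _
      unfold h
      rw [fA_eq hrp, fB_eq hrp, fN_eq hrp])
  rw [h1]
  have key : ∀ L : List (ℕ × ℕ × List ℕ), (L.map fun x => ((991533312000 / (x.2.1 + 1) : ℕ) : ℂ) *
      (((hz (fA x.1) (fB x.1) (fN x.1) : ℂ) / 14400) * ((hz (fA x.1) (fB x.1) (fN x.1) : ℂ) / 14400))).sum =
      (((L.map th).sum : ℤ) : ℂ) / (14400 * 14400) := by
    intro L
    induction L with
    | nil => simp
    | cons x L ih =>
      rw [List.map_cons, List.sum_cons, ih, List.map_cons, List.sum_cons]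
      have e : th x = ((991533312000 / (x.2.1 + 1) : ℕ) : ℤ) *
          (hz (fA x.1) (fB x.1) (fN x.1) * hz (fA x.1) (fB x.1) (fN x.1)) := by
        unfold th
        simp only [force_eq]
        rfl
      rw [e, Int.cast_add, Int.cast_mul, Int.cast_mul, Int.cast_natCast]
      generalize 991533312000 / (x.2.1 + 1) = m
      ring
  rw [key, tot_h]
  push_cast
  norm_num

theorem sum_a [Fintype N] : ∑ g : N, (na g : ℂ) = 495766656000 := by
  have h1 := clsN.2 (fun r => (na r : ℂ)) (fun b hb r => by simp only [na_conj hb])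
    (fun x => (fA x.1 : ℂ)) (fun x hx r hr hrp => by
      show (na r : ℂ) = _
      rw [fA_eq hrp])
  rw [h1]
  have key : ∀ L : List (ℕ × ℕ × List ℕ), (L.map fun x => ((991533312000 / (x.2.1 + 1) : ℕ) : ℂ) * (fA x.1 : ℂ)).sum =
      (((L.map fun x => Nat.mul (Nat.div 991533312000 (Nat.succ x.2.1)) (fA x.1)).sum : ℕ) : ℂ) := by
    intro L
    induction L with
    | nil => simp
    | cons x L ih =>
      rw [List.map_cons, List.sum_cons, ih, List.map_cons, List.sum_cons, Nat.cast_add]
      congr 1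
      rw [show Nat.mul (Nat.div 991533312000 (Nat.succ x.2.1)) (fA x.1) = 991533312000 / (x.2.1 + 1) * fA x.1 from rfl,
        Nat.cast_mul]
  rw [key, tot_a]
  norm_num

/-! ### transitivity -/

theorem finN : Finite N := Nat.finite_of_card_ne_zero (by rw [card_N]; norm_num)

theorem smul_val (g : N) (x : Fin 552) : g • x = (g : Perm (Fin 552)) x := rfl

theorem card_fix (g : N) : Nat.card (MulAction.fixedBy (Fin 552) g) = na g := by
  unfold na pwc
  refine Nat.card_congr (Equiv.subtypeEquivRight fun p => ?_)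
  rw [MulAction.mem_fixedBy, pow_one]
  rfl

theorem exists_smul (x : Fin 552) : ∃ g : N, g • (0 : Fin 552) = x := by
  classical
  have := finN
  have := Fintype.ofFinite N
  have h1 := Cfsg.Agent.S0157.avg_fixedBy (G := N) (Fin 552)
  simp only [card_fix] at h1
  rw [sum_a, card_N] at h1
  have h2 : ((Nat.card (Quotient (MulAction.orbitRel N (Fin 552))) : ℕ) : ℂ) = ((1 : ℕ) : ℂ) := by
    rw [← h1]
    norm_num
  have h3 : Nat.card (Quotient (MulAction.orbitRel N (Fin 552))) = 1 := by exact_mod_cast h2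
  have h4 := (Nat.card_eq_one_iff_unique.1 h3).1
  have h5 : (Quotient.mk'' x : Quotient (MulAction.orbitRel N (Fin 552))) = Quotient.mk'' 0 := Subsingleton.elim _ _
  exact Quotient.exact' h5

/-! ### the idempotent -/

theorem irr (x : Fin 552) : (row x).testBit x = false ∧ (row x).testBit (σ x : Fin 552) = false ∧ σ x ≠ x := by
  have h1 := (allN_iff _ _).1 irr_chk x x.2
  obtain ⟨h2, h3⟩ := band_true h1
  obtain ⟨h4, h5⟩ := band_true h3
  rw [tb_eq] at h2 h4
  refine ⟨by simpa using h2, by rw [σ_apply]; simpa using h4, fun h => ?_⟩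
  have h6 : lk 10 ts x = x := by rw [← σ_apply, h]
  rw [h6, Nat.beq_refl] at h5
  exact Bool.noConfusion h5

theorem cN_val (x y : Fin 552) : (cN x y : ℂ) = 4 + 6 * (if y = x then 1 else 0) - 4 * (if y = σ x then 1 else 0) +
    2 * (if (row x).testBit y = true then 1 else 0) := by
  obtain ⟨h1, h2, h3⟩ := irr x
  have e : cN x y = cnd (Nat.beq y x) 10 (cnd (Nat.beq y (σ x : Fin 552)) 0 (cnd ((row x).testBit y) 6 4)) := by
    unfold cN
    rw [tb_eq]
    rfl
  rw [e]
  by_cases ha : y = x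
  · subst ha
    rw [if_pos rfl, if_neg (Ne.symm h3), h1, if_neg (by simp), Nat.beq_refl, cnd_true]
    norm_num
  · have ha' : Nat.beq y x = false := by
      rw [← Bool.not_eq_true, Nat.beq_eq, Fin.val_inj]
      exact ha
    rw [ha', cnd_false, if_neg ha]
    by_cases hb : y = σ x
    · subst hb
      rw [if_pos rfl, h2, if_neg (by simp), Nat.beq_refl, cnd_true]
      norm_num
    · have hb' : Nat.beq y (σ x : Fin 552) = false := by
        rw [← Bool.not_eq_true, Nat.beq_eq, Fin.val_inj]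
        exact hb
      rw [hb', cnd_false, if_neg hb]
      cases (row x).testBit y
      · rw [cnd_false, if_neg (by simp)]
        norm_num
      · rw [cnd_true, if_pos rfl]
        norm_num

/-- the idempotent of the eigenvalue 55 -/
noncomputable def e (x y : Fin 552) : ℂ := ((cN x y : ℂ) - 5) / 120

theorem cN_smul (g : N) (x y : Fin 552) : (cN (g • x : Fin 552) (g • y : Fin 552) : ℂ) = cN x y := by
  have hg : (g : Perm (Fin 552)) ∈ A2 := Cfsg.Agent.H763.Co3.Model.N_le_A g.2
  rw [cN_val, cN_val]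
  have h1 : g • y = g • x ↔ y = x := (g : Perm (Fin 552)).injective.eq_iff
  have h2 : g • y = σ (g • x) ↔ y = σ x := by
    have h3 : σ (g • x) = g • σ x := by
      show σ ((g : Perm (Fin 552)) x) = (g : Perm (Fin 552)) (σ x)
      rw [← Perm.mul_apply, ← comm_σ hg, Perm.mul_apply]
    rw [h3]
    exact (g : Perm (Fin 552)).injective.eq_iff
  have h4 : (row (g • x : Fin 552)).testBit (g • y : Fin 552) = (row x).testBit y := A_le hg x y
  simp only [h1, h2, h4]

theorem e_smul (g : N) (x y : Fin 552) : e (g • x) (g • y) = e x y := by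
  unfold e
  rw [cN_smul]

theorem sumN_fin (f : ℕ → ℕ) : ((sumN f 552 : ℕ) : ℂ) = ∑ y : Fin 552, (f y : ℂ) := by
  rw [sumN_eq, Nat.cast_sum, ← Fin.sum_univ_eq_sum_range (fun i => ((f i : ℕ) : ℂ)) 552]

theorem e_zero (z : Fin 552) : ∑ y, e 0 y * e y z = e 0 z := by
  have h1 := Nat.eq_of_beq_eq_true ((allN_iff _ _).1 cs1_chk z z.2)
  have h2 := Nat.eq_of_beq_eq_true ((allN_iff _ _).1 cs2_chk z z.2)
  have h3 := Nat.eq_of_beq_eq_true row0_sum
  have h1' : ((cs1 z : ℕ) : ℂ) = 120 * cN 0 z + 13200 := by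
    rw [h1]
    show ((120 * cN 0 z + 13200 : ℕ) : ℂ) = _
    push_cast
    ring
  have h2' : ((cs2 z : ℕ) : ℂ) = 2760 := by rw [h2]; norm_num
  have h3' : ((sumN (fun y => cN 0 y) 552 : ℕ) : ℂ) = 2760 := by rw [h3]; norm_num
  unfold cs1 at h1'
  unfold cs2 at h2'
  rw [sumN_fin] at h1' h2' h3'
  have h4 : ∀ y : Fin 552, e 0 y * e y z = (((Nat.mul (cN 0 y) (cN y z) : ℕ) : ℂ) - 5 * cN 0 y - 5 * cN y z + 25) / 14400 := by
    intro y
    unfold e
    rw [show Nat.mul (cN 0 y) (cN y z) = cN 0 y * cN y z from rfl, Nat.cast_mul]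
    show ((cN 0 y : ℂ) - 5) / 120 * (((cN y z : ℂ) - 5) / 120) = _
    ring
  rw [Finset.sum_congr rfl fun y _ => h4 y, ← Finset.sum_div, Finset.sum_add_distrib, Finset.sum_sub_distrib,
    Finset.sum_sub_distrib, ← Finset.mul_sum, ← Finset.mul_sum, h1', h2', h3', Finset.sum_const, Finset.card_univ,
    Fintype.card_fin]
  unfold e
  show _ = ((cN 0 z : ℂ) - 5) / 120
  rw [nsmul_eq_mul]
  push_cast
  ring

theorem e_idem (x z : Fin 552) : ∑ y, e x y * e y z = e x z := by
  obtain ⟨g, rfl⟩ := exists_smul x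
  have h1 : ∀ y, e (g • (0 : Fin 552)) y * e y z = e 0 (g⁻¹ • y) * e (g⁻¹ • y) (g⁻¹ • z) := by
    intro y
    rw [← e_smul g 0 (g⁻¹ • y), ← e_smul g (g⁻¹ • y) (g⁻¹ • z), smul_inv_smul, smul_inv_smul]
  rw [Finset.sum_congr rfl fun y _ => h1 y,
    Fintype.sum_equiv (MulAction.toPerm g⁻¹) (fun y => e 0 (g⁻¹ • y) * e (g⁻¹ • y) (g⁻¹ • z))
      (fun y => e 0 y * e y (g⁻¹ • z)) (fun y => rfl), e_zero, ← e_smul g 0 (g⁻¹ • z), smul_inv_smul]

theorem card_ite (p : Fin 552 → Prop) [DecidablePred p] : ∑ x : Fin 552, (if p x then (1 : ℂ) else 0) =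
    (Nat.card {x : Fin 552 // p x} : ℂ) := by
  rw [Finset.sum_boole, Nat.card_eq_fintype_card, Fintype.card_subtype]

/-- the character of degree 23 -/
theorem isCharacter_mu : IsCharacter N (fun g : N => ((6 * na g + 2 * nn g - 4 * nb g - 552 : ℤ) : ℂ) / 120) := by
  have h1 := isCharacter_proj (G := N) (X := Fin 552) e e_smul e_idem
  convert h1 using 1
  funext g
  have h2 : ∀ x : Fin 552, e x (g • x) = ((-1) + 6 * (if g • x = x then 1 else 0) - 4 * (if g • x = σ x then 1 else 0) +
      2 * (if (row x).testBit (g • x : Fin 552) = true then 1 else 0)) / 120 := by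
    intro x
    unfold e
    rw [cN_val]
    ring
  rw [Finset.sum_congr rfl fun x _ => h2 x, ← Finset.sum_div, Finset.sum_add_distrib, Finset.sum_sub_distrib,
    Finset.sum_add_distrib, ← Finset.mul_sum, ← Finset.mul_sum, ← Finset.mul_sum, card_ite, card_ite, card_ite,
    Finset.sum_const, Finset.card_univ, Fintype.card_fin]
  have e1 : Nat.card {x : Fin 552 // g • x = x} = na g := by
    unfold na pwc
    refine Nat.card_congr (Equiv.subtypeEquivRight fun p => ?_)
    rw [pow_one]
    rfl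
  have e2 : Nat.card {x : Fin 552 // g • x = σ x} = nb g := rfl
  have e3 : Nat.card {x : Fin 552 // (row x).testBit (g • x : Fin 552) = true} = nn g := by
    unfold nn pwc
    refine Nat.card_congr (Equiv.subtypeEquivRight fun p => ?_)
    rw [pow_one]
    rfl
  rw [e1, e2, e3]
  push_cast
  ring

/-- the idempotent of the even functions -/
noncomputable def ee (x y : Fin 552) : ℂ := ((if y = x then 1 else 0) + (if y = σ x then 1 else 0)) / 2

theorem σσ (x : Fin 552) : σ (σ x) = x := by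
  have h1 : σ⁻¹ (σ x) = x := Equiv.symm_apply_apply σ x
  rwa [Cfsg.Agent.H763.Co3.Model.σ_inv] at h1

theorem ee_idem (x z : Fin 552) : ∑ y, ee x y * ee y z = ee x z := by
  have h1 : ∀ y, ee x y * ee y z = (if y = x then ee y z / 2 else 0) + (if y = σ x then ee y z / 2 else 0) := by
    intro y
    have : ee x y = ((if y = x then 1 else 0) + (if y = σ x then 1 else 0)) / 2 := rfl
    rw [this]
    split_ifs <;> ring
  rw [Finset.sum_congr rfl fun y _ => h1 y, Finset.sum_add_distrib, Finset.sum_ite_eq', Finset.sum_ite_eq',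
    if_pos (Finset.mem_univ _), if_pos (Finset.mem_univ _)]
  unfold ee
  rw [σσ]
  ring

theorem ee_smul (g : N) (x y : Fin 552) : ee (g • x) (g • y) = ee x y := by
  have hg : (g : Perm (Fin 552)) ∈ A2 := Cfsg.Agent.H763.Co3.Model.N_le_A g.2
  have h1 : g • y = g • x ↔ y = x := (g : Perm (Fin 552)).injective.eq_iff
  have h2 : g • y = σ (g • x) ↔ y = σ x := by
    have h3 : σ (g • x) = g • σ x := by
      show σ ((g : Perm (Fin 552)) x) = (g : Perm (Fin 552)) (σ x)
      rw [← Perm.mul_apply, ← comm_σ hg, Perm.mul_apply]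
    rw [h3]
    exact (g : Perm (Fin 552)).injective.eq_iff
  unfold ee
  simp only [h1, h2]

/-- the permutation character of degree 276 -/
theorem isCharacter_pi : IsCharacter N (fun g : N => ((na g + nb g : ℕ) : ℂ) / 2) := by
  have h1 := isCharacter_proj (G := N) (X := Fin 552) ee ee_smul ee_idem
  convert h1 using 1
  funext g
  unfold ee
  rw [← Finset.sum_div, Finset.sum_add_distrib, card_ite, card_ite]
  have e1 : Nat.card {x : Fin 552 // g • x = x} = na g := by
    unfold na pwc
    refine Nat.card_congr (Equiv.subtypeEquivRight fun p => ?_)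
    rw [pow_one]
    rfl
  have e2 : Nat.card {x : Fin 552 // g • x = σ x} = nb g := rfl
  rw [e1, e2]
  push_cast
  ring

theorem isCharacter_a : IsCharacter N (fun g : N => (na g : ℂ)) := by
  have h1 := Cfsg.Agent.S0157.isCharacter_fixedBy (G := N) (Fin 552)
  simp only [card_fix] at h1
  exact h1

/-! ### the character of degree 5544 -/

theorem h_gen : IsGeneralizedCharacter N (fun g : N => h g) := by
  rw [isGeneralizedCharacter_def]
  refine ⟨_, _, isCharacter_add (isCharacter_mul isCharacter_mu isCharacter_a) isCharacter_one,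
    isCharacter_add (isCharacter_mul isCharacter_mu isCharacter_pi)
      (isCharacter_add (isCharacter_mul isCharacter_mu isCharacter_mu) isCharacter_pi), ?_⟩
  funext g
  simp only [Pi.sub_apply, Pi.add_apply, Pi.mul_apply, Pi.one_apply]
  unfold h hz
  push_cast
  ring

theorem h_one : h 1 = 5544 := by
  have e1 : na 1 = 552 := by
    unfold na pwc
    rw [Nat.card_congr (Equiv.subtypeUnivEquiv (p := fun p : Fin 552 => Pw row false p (((1 : Perm (Fin 552)) ^ 1) p))
      (fun p => by rw [one_pow]; exact rfl)), Nat.card_eq_fintype_card, Fintype.card_fin]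
  have e2 : nb 1 = 0 := by
    unfold nb
    rw [Nat.card_eq_zero]
    left
    refine ⟨fun p => ?_⟩
    exact (irr p.1).2.2 p.2.symm
  have e3 : nn 1 = 0 := by
    unfold nn pwc
    rw [Nat.card_eq_zero]
    left
    refine ⟨?_⟩
    rintro ⟨p, hp⟩
    have h1 : Pw row true p (((1 : Perm (Fin 552)) ^ 1) p) := hp
    rw [one_pow] at h1
    change (row p).testBit (p : Fin 552) = true at h1
    rw [(irr p).1] at h1
    exact Bool.noConfusion h1
  unfold h hz
  rw [e1, e2, e3]
  norm_num

theorem h_conj' (r : Perm (Fin 552)) : conj (h r) = h r := by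
  unfold h
  rw [map_div₀, map_intCast, map_ofNat]

/-- **degree 5544** -/
theorem exists_5544 : ∃ χ : IrrCharacter N, charDegree (χ : N → ℂ) = 5544 := by
  classical
  have := finN
  have := Fintype.ofFinite N
  have hnorm : classInner (fun g : N => h g) (fun g : N => h g) = 1 := by
    rw [classInner_def]
    simp only [h_conj']
    rw [sum_h, card_N]
    norm_num
  have hval : h ((1 : N) : Perm (Fin 552)) = 5544 := h_one
  have hirr : IsIrrCharacter N (fun g : N => h g) := by
    rcases isIrr_of_generalized h_gen hnorm with h1 | h1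
    · exact h1
    · exfalso
      obtain ⟨n, hn, hn'⟩ := isIrr_apply_one h1
      rw [Pi.neg_apply, hval] at hn'
      have h4 : ((n : ℤ) : ℂ) + ((5544 : ℤ) : ℂ) = 0 := by
        push_cast
        rw [← hn']
        norm_num
      have h5 : (n : ℤ) + (5544 : ℤ) = 0 := by exact_mod_cast h4
      omega
  refine ⟨⟨_, hirr⟩, ?_⟩
  have h4 : ((charDegree (fun g : N => h g) : ℕ) : ℂ) = ((5544 : ℕ) : ℂ) := by
    rw [← Cfsg.Agent.Blocks.Basic.irr_one_eq_charDegree hirr, hval]
    norm_num
  exact_mod_cast h4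

end Cfsg.Agent.H174.HT.Co3
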